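import Cfsg.Agent.H41.FittingMax
import Cfsg.Agent.H42.TwoPrimes

/-!
Bender's argument: a subgroup of `F(H)` containing `Z(F(H))` without nontrivial invariant
`π(F(H))'`-subgroups lies in no maximal subgroup but `H`.
-/

set_option autoImplicit false

universe u

namespace Cfsg.Agent.OddOrder.BG8

open Subgroup H41
open scoped commutatorElement

variable {G : Type u} [Group G] [Finite G]

omit [Finite G] in
theorem fcomp_inf_eq_bot [Finite G] {p r : ℕ} [Fact p.Prime] [Fact r.Prime] (hpr : p ≠ r)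
    (H L : Subgroup G) : fcomp p L ⊓ fcomp r H = ⊥ := by
  obtain ⟨n, hn⟩ := IsPGroup.iff_card.mp (isPGroup_fcomp r H)
  exact Coprime.inf_eq_bot (hn ▸ (coprime_card_of_isPGroup hpr (isPGroup_fcomp p L)).pow_right n)

/-- A subgroup `U` of `H ∩ L` inside `O_r(H)` commutes with `O_p(L)` when `O_p(L) ≤ H`. -/
theorem le_centralizer_inter {p r : ℕ} [Fact p.Prime] [Fact r.Prime] (hpr : p ≠ r)
    {H L A B : Subgroup G} (hA : A ≤ fcomp p L) (hAH : A ≤ H) (hB : B ≤ fcomp r H) (hBL : B ≤ L) :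
    A ≤ centralizer (B : Set G) := by
  intro a ha b hb
  have h1 : a * b * a⁻¹ * b⁻¹ ∈ fcomp p L ⊓ fcomp r H := by
    refine ⟨?_, (fcomp r H).mul_mem (Coprime.conj_mem (le_normalizer_fcomp r H (hAH ha)) (hB hb))
      ((fcomp r H).inv_mem (hB hb))⟩
    rw [show a * b * a⁻¹ * b⁻¹ = a * (b * a⁻¹ * b⁻¹) by group]
    exact (fcomp p L).mul_mem (hA ha)
      (Coprime.conj_mem (le_normalizer_fcomp p L (hBL hb)) ((fcomp p L).inv_mem (hA ha)))
  rw [fcomp_inf_eq_bot hpr, mem_bot, mul_inv_eq_one, mul_inv_eq_iff_eq_mul] at h1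
  exact h1.symm

/-- `Z(F(H)) ∩ O_r(H)`. -/
def centComp (r : ℕ) (H : Subgroup G) : Subgroup G :=
  fcomp r H ⊓ centralizer (Cfsg.fittingOf H : Set G)

theorem centComp_ne_bot {r : ℕ} [hr : Fact r.Prime] {H : Subgroup G} (h : fcomp r H ≠ ⊥) :
    centComp r H ≠ ⊥ := by
  haveI : Nontrivial (fcomp r H) := (nontrivial_iff_ne_bot _).mpr h
  haveI := (isPGroup_fcomp r H).center_nontrivial
  obtain ⟨⟨z, hzc⟩, hz1⟩ := exists_ne (1 : center (fcomp r H))
  intro h0
  have hz : (z : G) ∈ centComp r H := ⟨z.2, by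
    have : Cfsg.fittingOf H ≤ centralizer (zpowers (z : G) : Set G) := fittingOf_le fun s hs => by
      haveI := Fact.mk hs
      rw [le_centralizer_iff, zpowers_le]
      by_cases hsr : s = r
      · subst hsr
        exact fun x hx => congrArg Subtype.val (mem_center_iff.mp hzc ⟨x, hx⟩)
      · exact fcomp_le_centralizer_fcomp (Ne.symm hsr) H z.2
    exact fun x hx => ((this hx) z (mem_zpowers _)).symm⟩
  rw [h0, mem_bot] at hz
  exact hz1 (Subtype.ext (Subtype.ext hz))

theorem centralizer_centComp_le (hG : Cfsg.IsMinimalSimple G) {r : ℕ} [Fact r.Prime] {H : Subgroup G}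
    (hH : IsCoatom H) (h : fcomp r H ≠ ⊥) : centralizer (centComp r H : Set G) ≤ H := by
  refine (Subgroup.centralizer_le_normalizer _).trans (normalizer_eq_of_isCoatom hG hH
    (inf_le_left.trans (fcomp_le r H)) (centComp_ne_bot h) ?_).le
  exact (le_inf (le_normalizer_fcomp r H)
    ((le_normalizer_fittingOf H).trans (H42.normalizer_le_centralizer' _))).trans
      inf_normalizer_le_normalizer_inf

/-- `O_p(L)` centralizes `O_r(H)` once both Fitting subgroups have the same primes and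
`O_p(L), O_r(L) ≤ H`. -/
theorem cross_centralizer (hG : Cfsg.IsMinimalSimple G) {H L : Subgroup G} (hL : IsCoatom L)
    (hLH : ∀ s : ℕ, s.Prime → fcomp s L ≤ H) {p r : ℕ} [Fact p.Prime] [Fact r.Prime] (hpr : p ≠ r)
    (hr : fcomp r L ≠ ⊥) : fcomp p L ≤ centralizer (fcomp r H : Set G) := by
  refine Coprime.thompson_AxB (isPGroup_fcomp r L) (coprime_card_of_isPGroup hpr (isPGroup_fcomp p L))
    (fcomp_le_centralizer_fcomp hpr.symm L) (fcomp r H) (isPGroup_fcomp r H)
    ((hLH r Fact.out).trans (le_normalizer_fcomp r H))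
    ((hLH p Fact.out).trans (le_normalizer_fcomp r H)) ?_
  rw [le_centralizer_iff]
  exact le_centralizer_inter hpr le_rfl (hLH p Fact.out) inf_le_left (inf_le_right.trans
    ((Subgroup.centralizer_le_normalizer _).trans (normalizer_fcomp hG hL hr).le))

/-- `O_{p'}(H) ≤ O_{p'}(L)`. -/
theorem pCorePrime_le_of_cross (hG : Cfsg.IsMinimalSimple G) {H L : Subgroup G} (hH : IsCoatom H)
    (hL : IsCoatom L) {p : ℕ} [hp : Fact p.Prime] (hpL : fcomp p L ≠ ⊥) (hpH : fcomp p H ≠ ⊥)
    (hLH : fcomp p L ≤ H) (hHL : fcomp p H ≤ L)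
    (hc : ∀ r : ℕ, r.Prime → r ≠ p → fcomp p L ≤ centralizer (fcomp r H : Set G)) :
    pCorePrime p H ≤ pCorePrime p L := by
  haveI : Group.IsSolvable H := hG.2.2 H hH.1
  set Q := pCorePrime p H with hQ
  set P := fcomp p L with hP
  have hQH : Q ≤ H := pCorePrime_le H
  have hPQ : P ≤ normalizer (Q : Set G) := hLH.trans (le_normalizer_pCorePrime H)
  have hle : ⁅Q, P⁆ ≤ Q := Coprime.commutator_le_left_of_normalizer hPQ
  have hF : ⁅Q, P⁆ ≤ Cfsg.fittingOf H := by
    refine centralizer_fittingOf_le (hle.trans hQH) fun r hr => ?_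
    by_cases hrp : r = p
    · subst hrp; exact hle.trans (pCorePrime_le_centralizer_fcomp r H)
    rw [commutator_le]
    intro d hd x hx
    have hdn : d ∈ normalizer (fcomp r H : Set G) := le_normalizer_fcomp r H (hQH hd)
    rw [commutatorElement_def]
    exact mul_mem (Coprime.conj_mem (H42.normalizer_le_centralizer' _ hdn) (hc r hr hrp hx))
      (inv_mem (hc r hr hrp hx))
  have hcomm : ⁅Q, P⁆ ≤ centralizer (P : Set G) := Coprime.le_of_forall_sylow_le fun s hs S hS hSp => by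
    haveI := Fact.mk hs
    by_cases hsp : s = p
    · subst hsp
      obtain ⟨n, hn⟩ := IsPGroup.iff_card.mp hSp
      have h0 : S ⊓ Q = ⊥ :=
        Coprime.inf_eq_bot (hn ▸ ((coprime_pCorePrime H).symm.pow_left n))
      rw [inf_eq_left.mpr (hS.trans hle)] at h0
      rw [h0]; exact bot_le
    · exact (le_fcomp_of_le_fittingOf (hS.trans hF) hSp).trans (le_centralizer_iff.mp (hc s hs hsp))
  have hcop : (Nat.card P).Coprime (Nat.card Q) := by
    obtain ⟨n, hn⟩ := IsPGroup.iff_card.mp (isPGroup_fcomp p L)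
    rw [hP, hn]
    exact ((coprime_pCorePrime H).pow_right n).symm
  have hQL : Q ≤ L :=
    (le_centralizer_iff.mp (Coprime.le_centralizer_of_commutator_le_centralizer hPQ hcop hcomm)).trans
      ((Subgroup.centralizer_le_normalizer _).trans (normalizer_fcomp hG hL hpL).le)
  exact le_pCorePrime_of_fcomp hG hH le_rfl (fcomp p H) le_rfl hpH L hL.1 hHL hQL

/-- Two maximal subgroups whose Fitting subgroups have the same primes, at least two, and lie in
both are equal. -/
theorem eq_of_fcomp_le (hG : Cfsg.IsMinimalSimple G) {H L : Subgroup G} (hH : IsCoatom H)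
    (hL : IsCoatom L) (hiff : ∀ s : ℕ, s.Prime → (fcomp s H = ⊥ ↔ fcomp s L = ⊥))
    (hLH : ∀ s : ℕ, s.Prime → fcomp s L ≤ H) {p q : ℕ} [Fact p.Prime] [Fact q.Prime] (hqp : q ≠ p)
    (hp : fcomp p H ≠ ⊥) (hq : fcomp q H ≠ ⊥) : H = L := by
  have hc : ∀ s t : ℕ, s.Prime → t.Prime → s ≠ t →
      fcomp s L ≤ centralizer (fcomp t H : Set G) := by
    intro s t hs ht hst
    haveI := Fact.mk hs
    haveI := Fact.mk ht
    by_cases h0 : fcomp t H = ⊥
    · rw [h0]
      intro x _ z hz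
      rw [mem_bot.mp hz, one_mul, mul_one]
    · exact cross_centralizer hG hL hLH hst (mt (hiff t ht).mpr h0)
  have hHL : ∀ s : ℕ, s.Prime → fcomp s H ≤ L := by
    intro s hs
    obtain ⟨t, ht, hts, ht0⟩ : ∃ t : ℕ, t.Prime ∧ t ≠ s ∧ fcomp t L ≠ ⊥ := by
      by_cases h : p = s
      · exact ⟨q, Fact.out, h ▸ hqp, mt (hiff q Fact.out).mpr hq⟩
      · exact ⟨p, Fact.out, h, mt (hiff p Fact.out).mpr hp⟩
    exact (le_centralizer_iff.mp (hc t s ht hs hts)).trans
      ((Subgroup.centralizer_le_normalizer _).trans (normalizer_fcomp hG hL ht0).le)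
  have hpL := mt (hiff p Fact.out).mpr hp
  have h1 := pCorePrime_le_of_cross hG hH hL hpL hp (hLH p Fact.out) (hHL p Fact.out)
    fun r hr hrp => hc p r Fact.out hr hrp.symm
  have h2 := pCorePrime_le_of_cross hG hL hH hp hpL (hHL p Fact.out) (hLH p Fact.out)
    fun r hr hrp => le_centralizer_iff.mp (hc r p hr Fact.out hrp)
  have hne : pCorePrime p H ≠ ⊥ := ne_bot_of_le_ne_bot hq (fcomp_le_pCorePrime hqp H)
  have e := le_antisymm h1 h2
  rw [← normalizer_eq_of_isCoatom hG hH (pCorePrime_le H) hne (le_normalizer_pCorePrime H), e,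
    normalizer_eq_of_isCoatom hG hL (pCorePrime_le L) (e ▸ hne) (le_normalizer_pCorePrime L)]

/-- `H` is the only maximal subgroup over `M`. -/
theorem eq_of_overgroup (hG : Cfsg.IsMinimalSimple G) {H : Subgroup G} (hH : IsCoatom H)
    (hF2 : 2 ≤ (Nat.card (Cfsg.fittingOf H)).primeFactors.card) {M : Subgroup G}
    (hM : M ≤ Cfsg.fittingOf H)
    (hZM : Cfsg.fittingOf H ⊓ centralizer (Cfsg.fittingOf H : Set G) ≤ M)
    (hinv : ∀ Y ∈ Cfsg.invSubgroups ⊤ M (Cfsg.primesNotDvd (Nat.card (Cfsg.fittingOf H))), Y = ⊥)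
    {L : Subgroup G} (hL : IsCoatom L) (hML : M ≤ L) : L = H := by
  haveI : Group.IsSolvable L := hG.2.2 L hL.1
  set F := Cfsg.fittingOf H with hFdef
  have hMn : ∀ r : ℕ, M ≤ normalizer (fcomp r H : Set G) := fun r =>
    (hM.trans (fittingOf_le_self H)).trans (le_normalizer_fcomp r H)
  have hC : ∀ (r : ℕ) [Fact r.Prime], fcomp r H ≠ ⊥ →
      centralizer ((fcomp r H ⊓ M : Subgroup G) : Set G) ≤ H := fun r _ hr =>
    (Subgroup.centralizer_le (le_inf inf_le_left ((le_inf (inf_le_left.trans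
      (fcomp_le_fittingOf Fact.out H)) inf_le_right).trans hZM) : centComp r H ≤ fcomp r H ⊓ M)).trans
      (centralizer_centComp_le hG hH hr)
  have hzero : ∀ r : ℕ, r.Prime → fcomp r H = ⊥ → fcomp r L = ⊥ := by
    intro r hr h0
    haveI := Fact.mk hr
    refine hinv _ ⟨le_top, fun s hs hd => ⟨hs, fun hsF => ?_⟩, hML.trans (le_normalizer_fcomp r L)⟩
    obtain ⟨n, hn⟩ := IsPGroup.iff_card.mp (isPGroup_fcomp r L)
    rw [hn] at hd
    obtain rfl := (Nat.prime_dvd_prime_iff_eq hs hr).mp (hs.dvd_of_dvd_pow hd)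
    exact fcomp_ne_bot_of_dvd hsF h0
  have hpart : ∀ p r : ℕ, p.Prime → r.Prime → p ≠ r →
      fcomp r H ⊓ M ≤ centralizer (fcomp p L : Set G) := by
    intro p r hp hr hpr
    haveI := Fact.mk hp
    haveI := Fact.mk hr
    by_cases hp0 : fcomp p H = ⊥
    · rw [hzero p hp hp0]
      intro x _ z hz
      rw [mem_bot.mp hz, one_mul, mul_one]
    refine Coprime.thompson_AxB ((isPGroup_fcomp p H).to_le (inf_le_left : fcomp p H ⊓ M ≤ _))
      (coprime_card_of_isPGroup hpr.symm ((isPGroup_fcomp r H).to_le inf_le_left))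
      ((inf_le_left.trans (fcomp_le_centralizer_fcomp hpr H)).trans (Subgroup.centralizer_le inf_le_left))
      (fcomp p L) (isPGroup_fcomp p L) ((inf_le_right.trans hML).trans (le_normalizer_fcomp p L))
      ((inf_le_right.trans hML).trans (le_normalizer_fcomp p L)) ?_
    exact le_centralizer_inter hpr inf_le_left (inf_le_right.trans (hC p hp0)) inf_le_left
      (inf_le_right.trans hML)
  have hnz : ∀ r : ℕ, r.Prime → fcomp r H ≠ ⊥ → fcomp r L ≠ ⊥ := by
    intro r hr h0 hL0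
    haveI := Fact.mk hr
    have hle : fcomp r H ⊓ M ≤ fcomp r L := le_fcomp_of_le_fittingOf
      (centralizer_fittingOf_le (inf_le_right.trans hML) fun s hs => by
        by_cases hsr : s = r
        · subst hsr
          rw [hL0]
          intro x _ z hz
          rw [mem_bot.mp hz, one_mul, mul_one]
        · exact hpart s r hs hr hsr) ((isPGroup_fcomp r H).to_le inf_le_left)
    refine centComp_ne_bot h0 (le_bot_iff.mp (((le_inf inf_le_left ?_).trans hle).trans hL0.le))
    exact (le_inf (inf_le_left.trans (fcomp_le_fittingOf hr H)) inf_le_right).trans hZM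
  obtain ⟨p, hpm, q, hqm, hne⟩ := Finset.one_lt_card.mp hF2
  haveI := Fact.mk (Nat.prime_of_mem_primeFactors hpm)
  haveI := Fact.mk (Nat.prime_of_mem_primeFactors hqm)
  have hp0 : fcomp p H ≠ ⊥ := fcomp_ne_bot_of_dvd (Nat.dvd_of_mem_primeFactors hpm)
  have hq0 : fcomp q H ≠ ⊥ := fcomp_ne_bot_of_dvd (Nat.dvd_of_mem_primeFactors hqm)
  refine (eq_of_fcomp_le hG hH hL (fun s hs => ⟨hzero s hs, fun h => by_contra fun h' => hnz s hs h' h⟩)
    (fun s hs => ?_) hne.symm hp0 hq0).symm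
  obtain ⟨t, ht, hts, ht0⟩ : ∃ t : ℕ, t.Prime ∧ t ≠ s ∧ fcomp t H ≠ ⊥ := by
    by_cases h : p = s
    · exact ⟨q, Fact.out, h ▸ hne.symm, hq0⟩
    · exact ⟨p, Fact.out, h, hp0⟩
  haveI := Fact.mk ht
  exact (le_centralizer_iff.mp (hpart s t hs ht hts.symm)).trans (hC t ht0)

end Cfsg.Agent.OddOrder.BG8
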